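import Mathlib

/-!
# Affine algebraic groups whose nilpotents vanish to second order are reduced
-/

universe u v

open WithConv TensorProduct

noncomputable section

namespace Groth.Agent.HopfRedSq

variable {k : Type u} [Field k] {A : Type v} [CommRing A] [HopfAlgebra k A]

/-- Constant map at a point. -/
abbrev cst (g : WithConv (A →ₐ[k] k)) : WithConv (A →ₐ[k] A) :=
  toConv ((Algebra.ofId k A).comp g.ofConv)

/-- Translation by a point. -/
def tau (g : WithConv (A →ₐ[k] k)) : A →ₐ[k] A := (toConv (AlgHom.id k A) * cst g).ofConv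

lemma cst_mul (g h : WithConv (A →ₐ[k] k)) : cst (g * h) = cst g * cst h := by
  refine WithConv.ext ?_
  exact AlgHom.comp_convMul_distrib _ _ _

lemma cst_one : cst (1 : WithConv (A →ₐ[k] k)) = 1 := rfl

lemma tau_comp (g h : WithConv (A →ₐ[k] k)) : (tau g).comp (tau h) = tau (g * h) := by
  unfold tau
  rw [AlgHom.comp_convMul_distrib, cst_mul, ← mul_assoc]
  congr 2
  exact WithConv.ext (AlgHom.ext fun a => (tau g).commutes _)

lemma tau_one : tau (1 : WithConv (A →ₐ[k] k)) = AlgHom.id k A := by
  rw [tau, cst_one, mul_one, ofConv_toConv]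

lemma comp_tau (h g : WithConv (A →ₐ[k] k)) : toConv (h.ofConv.comp (tau g)) = h * g := by
  refine WithConv.ext ?_
  unfold tau
  rw [ofConv_toConv, AlgHom.comp_convMul_distrib]
  congr 2
  exact WithConv.ext (AlgHom.ext fun a => h.ofConv.commutes _)

/-- Translation as an automorphism. -/
def tauEquiv (g : WithConv (A →ₐ[k] k)) : A ≃ₐ[k] A :=
  AlgEquiv.ofAlgHom (tau g) (tau g⁻¹) (by rw [tau_comp, mul_inv_cancel, tau_one])
    (by rw [tau_comp, inv_mul_cancel, tau_one])

variable [IsAlgClosed k] [Algebra.FiniteType k A]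

lemma exists_point (M : Ideal A) [M.IsMaximal] :
    ∃ g : WithConv (A →ₐ[k] k), RingHom.ker g.ofConv = M := by
  letI : Field (A ⧸ M) := Ideal.Quotient.field M
  have hf : Algebra.FiniteType k (A ⧸ M) :=
    .of_surjective (Ideal.Quotient.mkₐ k M) Ideal.Quotient.mk_surjective
  have : Module.Finite k (A ⧸ M) := finite_of_finite_type_of_isJacobsonRing k (A ⧸ M)
  have hbij := IsAlgClosed.algebraMap_bijective_of_isIntegral (k := k) (K := A ⧸ M)
  refine ⟨toConv ((AlgEquiv.ofBijective (Algebra.ofId k (A ⧸ M)) hbij).symm.toAlgHom.comp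
    (Ideal.Quotient.mkₐ k M)), ?_⟩
  ext a
  simp [RingHom.mem_ker, Ideal.Quotient.eq_zero_iff_mem]

lemma exists_equiv_comap_eq (M M' : Ideal A) [M.IsMaximal] [M'.IsMaximal] :
    ∃ e : A ≃ₐ[k] A, ∀ a, e a ∈ M ↔ a ∈ M' := by
  obtain ⟨g, hg⟩ := exists_point (k := k) M
  obtain ⟨g', hg'⟩ := exists_point (k := k) M'
  refine ⟨tauEquiv (g⁻¹ * g'), fun a => ?_⟩
  have h := comp_tau g (g⁻¹ * g')
  rw [← mul_assoc, mul_inv_cancel, one_mul] at h
  have h' : g.ofConv.comp (tau (g⁻¹ * g')) = g'.ofConv := congrArg WithConv.ofConv h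
  rw [← hg, ← hg', RingHom.mem_ker, RingHom.mem_ker, ← h']
  rfl

omit [HopfAlgebra k A] [IsAlgClosed k] [Algebra.FiniteType k A] in
lemma nilradical_map_equiv [Algebra k A] (e : A ≃ₐ[k] A) {a : A} (h : a ∈ nilradical A) :
    e a ∈ nilradical A := by
  rw [mem_nilradical] at h ⊢
  exact h.map e

variable (hI : nilradical A ≤ RingHom.ker (Bialgebra.counitAlgHom k A) ^ 2)

include hI in
lemma nilradical_le_sq (M : Ideal A) [M.IsMaximal] : nilradical A ≤ M ^ 2 := by
  set I := RingHom.ker (Bialgebra.counitAlgHom k A)
  have : I.IsMaximal := RingHom.ker_isMaximal_of_surjective _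
    (fun x => ⟨algebraMap k A x, by simp⟩)
  obtain ⟨e, he⟩ := exists_equiv_comap_eq (k := k) M I
  have hIM : I.map e.toAlgHom.toRingHom ≤ M := by
    rw [Ideal.map_le_iff_le_comap]
    exact fun a ha => (he a).mpr ha
  intro n hn
  have : e.symm n ∈ I ^ 2 := hI (nilradical_map_equiv e.symm hn)
  have h2 := Ideal.mem_map_of_mem e.toAlgHom.toRingHom this
  rw [Ideal.map_pow] at h2
  have := Ideal.pow_right_mono hIM 2 h2
  simpa using this

omit [HopfAlgebra k A] [IsAlgClosed k] [Algebra.FiniteType k A] in
/-- A nil thickening of a formally smooth algebra with no first order part is trivial. -/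
theorem isReduced_of_formallySmooth [Algebra k A] [IsNoetherianRing A]
    (hs : Algebra.FormallySmooth k (A ⧸ nilradical A))
    (hsq : ∀ M : Ideal A, M.IsMaximal → nilradical A ≤ M ^ 2) : IsReduced A := by
  let N := nilradical A
  have hN : IsNilpotent N := IsNoetherianRing.isNilpotent_nilradical A
  obtain ⟨s, hs'⟩ := Algebra.FormallySmooth.exists_lift N hN (AlgHom.id k (A ⧸ N))
  have hs'' : ∀ b, Ideal.Quotient.mk N (s b) = b := fun b => AlgHom.congr_fun hs' b
  algebraize [s.toRingHom]
  have hgen : ∀ a : A, ∃ b, a - algebraMap (A ⧸ N) A b ∈ N := fun a => ⟨Ideal.Quotient.mk N a, by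
    rw [← Ideal.Quotient.eq]
    exact (hs'' _).symm⟩
  -- integrality and finiteness
  have hfin : Module.Finite (A ⧸ N) A := by
    obtain ⟨t, ht⟩ := IsNoetherian.noetherian N
    have hint : ∀ x ∈ (t : Set A), IsIntegral (A ⧸ N) x := fun x hx => by
      obtain ⟨n, hn⟩ := mem_nilradical.mp (ht ▸ Submodule.subset_span hx : x ∈ N)
      exact ⟨Polynomial.X ^ n, Polynomial.monic_X_pow n, by simp [hn]⟩
    let S := Algebra.adjoin (A ⧸ N) (t : Set A)
    have hSfg : S.toSubmodule.FG := fg_adjoin_of_finite t.finite_toSet hint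
    have hstep : ∀ j : ℕ, ∀ a ∈ N ^ j, a ∈ S.toSubmodule ⊔ (N ^ (j + 1)).restrictScalars (A ⧸ N) := by
      intro j
      induction j with
      | zero =>
        intro a _
        obtain ⟨b, hb⟩ := hgen a
        rw [← add_sub_cancel (algebraMap (A ⧸ N) A b) a]
        exact Submodule.add_mem_sup (S.algebraMap_mem b) (by simpa using hb)
      | succ j ih =>
        intro a ha
        rw [pow_succ] at ha
        refine Submodule.mul_induction_on ha (fun m hm n hn => ?_) (fun x y hx hy => add_mem hx hy)
        rw [show N = Submodule.span A (t : Set A) from ht.symm] at hn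
        induction hn using Submodule.span_induction generalizing m with
        | mem x hx =>
          obtain ⟨p, hp, q, hq, rfl⟩ := Submodule.mem_sup.mp (ih m hm)
          rw [add_mul]
          refine Submodule.add_mem_sup (S.mul_mem hp (Algebra.subset_adjoin hx)) ?_
          rw [pow_succ]
          exact Ideal.mul_mem_mul hq (ht ▸ Submodule.subset_span hx)
        | zero => simp
        | add x y _ _ hx hy => rw [mul_add]; exact add_mem (hx m hm) (hy m hm)
        | smul c x _ hx =>
          rw [smul_eq_mul, ← mul_assoc]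
          exact hx _ (Ideal.mul_mem_right c _ hm)
    obtain ⟨n, hn⟩ := hN
    have : ∀ j, (⊤ : Submodule (A ⧸ N) A) ≤ S.toSubmodule ⊔ (N ^ j).restrictScalars (A ⧸ N) := by
      intro j
      induction j with
      | zero => intro a _; exact Submodule.mem_sup_right (by simp)
      | succ j ih =>
        intro a ha
        obtain ⟨p, hp, q, hq, rfl⟩ := Submodule.mem_sup.mp (ih ha)
        exact add_mem (Submodule.mem_sup_left hp) (hstep j q hq)
    have htop : S.toSubmodule = ⊤ := by
      have := this n
      rw [hn, Submodule.zero_eq_bot, Submodule.restrictScalars_bot, sup_bot_eq] at this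
      exact top_le_iff.mp this
    exact ⟨htop ▸ hSfg⟩
  -- Nakayama
  let R := LinearMap.range (Algebra.linearMap (A ⧸ N) A)
  have hR : R = ⊤ := by
    by_contra hne
    let Q := A ⧸ R
    have : Nontrivial Q := Submodule.Quotient.nontrivial_iff.mpr hne
    have hann : Module.annihilator (A ⧸ N) Q ≠ ⊤ := fun h =>
      not_subsingleton Q (Module.annihilator_eq_top_iff.mp h)
    obtain ⟨m, hm, hle⟩ := Ideal.exists_le_maximal _ hann
    -- the ideal generated by `m` is maximal
    let M : Ideal A := m.comap (Ideal.Quotient.mk N)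
    have : M.IsMaximal := Ideal.comap_isMaximal_of_surjective _ Ideal.Quotient.mk_surjective
    let P := m.map (algebraMap (A ⧸ N) A)
    have hMP : M ≤ P ⊔ N := by
      intro a ha
      obtain ⟨b, hb⟩ := hgen a
      have hba : Ideal.Quotient.mk N a = b := by
        have := Ideal.Quotient.eq.mpr hb
        rw [this]
        exact hs'' b
      rw [← add_sub_cancel (algebraMap (A ⧸ N) A b) a]
      refine Submodule.add_mem_sup (Ideal.mem_map_of_mem _ ?_) hb
      rw [← hba]
      exact ha
    have hMP2 : ∀ j, M ≤ P ⊔ N ^ j := by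
      intro j
      induction j with
      | zero => simp
      | succ j ih =>
        have h1 : N ≤ P ⊔ N ^ (j + 1) := by
          calc N ≤ M ^ 2 := hsq M inferInstance
            _ = M * M := pow_two M
            _ ≤ (P ⊔ N ^ j) * (P ⊔ N) := Ideal.mul_mono ih hMP
            _ ≤ P ⊔ N ^ (j + 1) := by
              rw [Ideal.mul_sup, Ideal.sup_mul, Ideal.sup_mul, pow_succ]
              refine sup_le (sup_le ?_ ?_) (sup_le ?_ le_sup_right)
              all_goals first
                | exact Ideal.mul_le_left.trans le_sup_left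
                | exact Ideal.mul_le_right.trans le_sup_left
        exact hMP.trans (sup_le le_sup_left h1)
    obtain ⟨n, hn⟩ := hN
    have hNP : N ≤ P := by
      have := (le_trans (hsq M inferInstance) (Ideal.pow_le_self two_ne_zero)).trans (hMP2 n)
      simpa [hn] using this
    -- so `Q = m Q`
    have hsmul : (⊤ : Submodule (A ⧸ N) Q) ≤ m • ⊤ := by
      intro q _
      obtain ⟨a, rfl⟩ := Submodule.Quotient.mk_surjective _ q
      obtain ⟨b, hb⟩ := hgen a
      have hz : (Submodule.Quotient.mk (algebraMap (A ⧸ N) A b) : Q) = 0 :=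
        (Submodule.Quotient.mk_eq_zero R).mpr ⟨b, rfl⟩
      rw [← sub_add_cancel a (algebraMap (A ⧸ N) A b), Submodule.Quotient.mk_add, hz, add_zero]
      have hmem := hNP hb
      rw [← Submodule.restrictScalars_mem (A ⧸ N), ← Ideal.smul_top_eq_map] at hmem
      have := Submodule.mem_map_of_mem (f := R.mkQ) hmem
      rwa [Submodule.map_smul'', Submodule.map_top, Submodule.range_mkQ] at this
    obtain ⟨r, hr1, hr2⟩ := Submodule.exists_sub_one_mem_and_smul_eq_zero_of_fg_of_le_smul m
      (⊤ : Submodule (A ⧸ N) Q) Module.Finite.fg_top hsmul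
    have hrm : r ∈ m := hle (Module.mem_annihilator.mpr fun q => hr2 q Submodule.mem_top)
    exact hm.ne_top ((Ideal.eq_top_iff_one m).mpr (by simpa using sub_mem hrm hr1))
  constructor
  intro a ha
  obtain ⟨b, hb⟩ : a ∈ R := by rw [hR]; trivial
  have : b = 0 := by
    rw [← hs'' b]
    show Ideal.Quotient.mk N (algebraMap (A ⧸ N) A b) = 0
    rw [Ideal.Quotient.eq_zero_iff_mem]
    exact mem_nilradical.mpr (hb.symm ▸ ha)
  rw [← hb, this]
  exact map_zero _

omit [HopfAlgebra k A] in
/-- A nonzero reduced finitely generated algebra over a perfect field is smooth somewhere. -/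
theorem exists_smooth_away [Algebra k A] [Algebra.FiniteType k A] [Nontrivial A] [IsReduced A] :
    ∃ f : A, f ≠ 0 ∧ Algebra.Smooth k (Localization.Away f) := by
  obtain ⟨p, hp⟩ := (Ideal.nonempty_minimalPrimes (I := (⊥ : Ideal A)) bot_ne_top)
  have : p.IsPrime := hp.1.1
  have : Algebra.FinitePresentation k A := Algebra.FinitePresentation.of_finiteType.mp inferInstance
  let L := Localization.AtPrime p
  have hL : IsField L := by
    rw [IsLocalRing.isField_iff_maximalIdeal_eq, eq_bot_iff]
    intro x hx
    have hxn : x ∈ nilradical L := by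
      rw [nilradical_eq_sInf, Submodule.mem_sInf]
      intro (Q : Ideal L) (hQ : Q.IsPrime)
      have hd : Disjoint (p.primeCompl : Set A) ↑(Q.comap (algebraMap A L)) :=
        ((IsLocalization.isPrime_iff_isPrime_disjoint p.primeCompl L Q).mp hQ).2
      have hle : Q.comap (algebraMap A L) ≤ p := fun a ha => by
        by_contra hap
        exact hd.le_bot ⟨hap, ha⟩
      have heq : Q.comap (algebraMap A L) = p :=
        le_antisymm hle (hp.2 ⟨Ideal.comap_isPrime _ _, bot_le⟩ hle)
      have : Q = IsLocalRing.maximalIdeal L := by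
        rw [← IsLocalization.map_comap p.primeCompl L Q, show Q.under A = p from heq]
        exact Localization.AtPrime.map_eq_maximalIdeal
      rwa [this]
    have : IsReduced L := isReduced_localizationPreserves p.primeCompl L inferInstance
    rw [nilradical_eq_zero L] at hxn
    exact hxn
  let _ : Field L := hL.toField
  have : Algebra.EssFiniteType k L := Algebra.EssFiniteType.comp k A L
  have : Algebra.IsSmoothAt k p := (inferInstance : Algebra.FormallySmooth k L)
  obtain ⟨f, hf, hs⟩ := Algebra.IsSmoothAt.exists_notMem_smooth k p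
  exact ⟨f, fun h => hf (h ▸ zero_mem p), hs⟩

include hI in
theorem isReduced : IsReduced A := by
  have : IsNoetherianRing A := Algebra.FiniteType.isNoetherianRing k A
  have : IsJacobsonRing A := isJacobsonRing_of_finiteType (A := k)
  let N := nilradical A
  have : Nontrivial A := Bialgebra.nontrivial k
  have hN : N ≠ ⊤ := fun h => not_isNilpotent_one (R := A) (mem_nilradical.mp (show (1 : A) ∈ N from h.symm ▸ Submodule.mem_top))
  have : Nontrivial (A ⧸ N) := Ideal.Quotient.nontrivial_iff.mpr hN
  have : IsReduced (A ⧸ N) := by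
    rw [← Ideal.isRadical_iff_quotient_reduced]
    exact Ideal.radical_isRadical _
  obtain ⟨f', hf', hsm⟩ := exists_smooth_away (k := k) (A := A ⧸ N)
  obtain ⟨f, rfl⟩ := Ideal.Quotient.mk_surjective f'
  let C := Localization.Away f
  have : IsNoetherianRing C := IsLocalization.isNoetherianRing (.powers f) C inferInstance
  have hnil : nilradical C = N.map (algebraMap A C) := by
    refine le_antisymm (fun c hc => ?_) ?_
    · obtain ⟨⟨a, t⟩, hat⟩ := IsLocalization.surj (Submonoid.powers f) c
      obtain ⟨m, hm⟩ := mem_nilradical.mp hc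
      have h0 : algebraMap A C (a ^ m) = 0 := by
        rw [map_pow, ← hat, mul_pow, hm, zero_mul]
      obtain ⟨⟨r, hr⟩, hra⟩ := (IsLocalization.map_eq_zero_iff (.powers f) C _).mp h0
      have hrN : r * a ∈ N := by
        refine mem_nilradical.mpr ⟨m + 1, ?_⟩
        rw [mul_pow, pow_succ r, pow_succ a]
        calc r ^ m * r * (a ^ m * a) = r ^ m * a * (r * a ^ m) := by ring
          _ = 0 := by rw [show r * a ^ m = 0 from hra, mul_zero]
      have h2 := Ideal.mem_map_of_mem (algebraMap A C) hrN
      have hu := (IsLocalization.map_units C (⟨r, hr⟩ : Submonoid.powers f)).mul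
        (IsLocalization.map_units C (1 : Submonoid.powers f))
      rw [map_mul, ← hat] at h2
      have hu2 := (IsLocalization.map_units C (⟨r, hr⟩ : Submonoid.powers f)).mul
        (IsLocalization.map_units C t)
      rw [← mul_assoc, mul_right_comm, Ideal.unit_mul_mem_iff_mem _ hu2] at h2
      exact h2
    · rw [Ideal.map_le_iff_le_comap]
      exact fun a ha => mem_nilradical.mpr ((mem_nilradical.mp ha).map _)
  have hsmC : Algebra.FormallySmooth k (C ⧸ nilradical C) := by
    have : IsLocalization.Away (Ideal.Quotient.mk N f) (C ⧸ N.map (algebraMap A C)) := by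
      have h := IsLocalization.of_surjective (R := A) (S := C) (Submonoid.powers f)
        (Ideal.Quotient.mk N) Ideal.Quotient.mk_surjective
        (Ideal.Quotient.mk (N.map (algebraMap A C))) Ideal.Quotient.mk_surjective rfl
        (by rw [Ideal.mk_ker, Ideal.mk_ker])
      rwa [Submonoid.map_powers] at h
    rw [hnil]
    have : IsScalarTower k (A ⧸ N) (C ⧸ N.map (algebraMap A C)) :=
      IsScalarTower.of_algebraMap_eq fun r => rfl
    exact Algebra.FormallySmooth.of_equiv
      ((IsLocalization.algEquiv (.powers (Ideal.Quotient.mk N f)) (Localization.Away (Ideal.Quotient.mk N f))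
        (C ⧸ N.map (algebraMap A C))).restrictScalars k)
  have hCred : IsReduced C := by
    refine isReduced_of_formallySmooth (k := k) hsmC fun M hM => ?_
    rw [hnil]
    have : (M.comap (algebraMap A C)).IsMaximal :=
      ((IsLocalization.isMaximal_iff_isMaximal_disjoint C f M).mp hM).1
    refine (Ideal.map_mono (nilradical_le_sq hI (M.comap (algebraMap A C)))).trans ?_
    rw [Ideal.map_pow]
    exact Ideal.pow_right_mono Ideal.map_comap_le 2
  -- a maximal ideal avoiding `f`
  obtain ⟨M₀, hM₀, hfM⟩ : ∃ M : Ideal A, M.IsMaximal ∧ f ∉ M := by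
    by_contra h
    push Not at h
    refine hf' (Ideal.Quotient.eq_zero_iff_mem.mpr ?_)
    have hjac : N.jacobson = N := IsJacobsonRing.out inferInstance (Ideal.radical_isRadical _)
    rw [← hjac, Ideal.jacobson, Submodule.mem_sInf]
    exact fun M hM => h M hM.2
  constructor
  intro a ha
  by_contra hane
  obtain ⟨M, hM, hle⟩ := Ideal.exists_le_maximal (Submodule.colon ⊥ ({a} : Set A)) (fun h => hane (by
    have : (1 : A) ∈ Submodule.colon ⊥ ({a} : Set A) := h ▸ Submodule.mem_top
    simpa [Submodule.mem_colon_singleton] using this))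
  obtain ⟨e, he⟩ := exists_equiv_comap_eq (k := k) M₀ M
  have h0 : algebraMap A C (e a) = 0 := IsReduced.eq_zero _ ((ha.map e).map _)
  obtain ⟨⟨r, m, rfl⟩, hr⟩ := (IsLocalization.map_eq_zero_iff (.powers f) C _).mp h0
  have hc : e.symm (f ^ m) ∈ Submodule.colon ⊥ ({a} : Set A) := by
    rw [Submodule.mem_colon_singleton, Submodule.mem_bot, smul_eq_mul]
    apply e.injective
    rw [map_mul, AlgEquiv.apply_symm_apply, map_zero]
    exact hr
  have := (he _).mpr (hle hc)
  rw [AlgEquiv.apply_symm_apply] at this
  exact hfM (hM₀.isPrime.mem_of_pow_mem m this)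

end Groth.Agent.HopfRedSq
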